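import Mathlib

/-! Part G of S0197: the arithmetic at the end. `a, d` signed degrees, `al, ga` signed values at the
involution, `x, s` degree and value at the involution of `X₁`, `r` the remaining contribution to the
column norm at the involution. Author: helper3. -/

set_option autoImplicit false

namespace Cfsg.Agent.Characters.GL23.Arith

/-- odd integers whose square divides `9 * (20 k + 3)` -/
theorem k_cases_pos (k n : ℤ) (hk : k % 2 = 1) (h : n * k ^ 2 = 72 * ((2 + 8 * k) * (3 + 8 * k))) :
    k = 1 ∨ k = -1 ∨ k = 3 ∨ k = -3 := by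
  have h1 : k ∣ 432 := by
    refine ⟨n * k - 72 * 64 * k - 72 * 40, ?_⟩
    linear_combination (-1 : ℤ) * h
  have h2 : IsCoprime k 2 := by
    rw [Int.isCoprime_iff_gcd_eq_one]
    have := Int.emod_two_eq_zero_or_one k
    rcases Int.odd_iff.mpr hk with ⟨j, rfl⟩
    norm_num
  have h3 : k ∣ 27 := by
    have : IsCoprime k 16 := by
      have := h2.pow_right (n := 4)
      norm_num at this
      exact this
    have h4 : k ∣ 16 * 27 := by norm_num; exact h1
    exact this.dvd_of_dvd_mul_left h4
  have h5 : k.natAbs ∣ 27 := by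
    have := Int.natAbs_dvd_natAbs.mpr h3
    simpa using this
  have h6 : k.natAbs = 1 ∨ k.natAbs = 3 ∨ k.natAbs = 9 ∨ k.natAbs = 27 := by
    have h7 : k.natAbs ≤ 27 := Nat.le_of_dvd (by norm_num) h5
    interval_cases k.natAbs <;> simp_all
  rcases h6 with h6 | h6 | h6 | h6
  · omega
  · omega
  · rcases Int.natAbs_eq k with h8 | h8 <;> rw [h6] at h8 <;> subst h8 <;> norm_num at h <;> omega
  · rcases Int.natAbs_eq k with h8 | h8 <;> rw [h6] at h8 <;> subst h8 <;> norm_num at h <;> omega

theorem k_cases_neg (k n : ℤ) (hk : k % 2 = 1) (h : n * k ^ 2 = 72 * ((-2 + 8 * k) * (-1 + 8 * k))) :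
    k = 1 ∨ k = -1 ∨ k = 3 ∨ k = -3 := by
  have h1 : k ∣ 144 := by
    refine ⟨n * k - 72 * 64 * k + 72 * 24, ?_⟩
    linear_combination (-1 : ℤ) * h
  have h2 : IsCoprime k 2 := by
    rw [Int.isCoprime_iff_gcd_eq_one]
    rcases Int.odd_iff.mpr hk with ⟨j, rfl⟩
    norm_num
  have h3 : k ∣ 9 := by
    have : IsCoprime k 16 := by
      have := h2.pow_right (n := 4)
      norm_num at this
      exact this
    have h4 : k ∣ 16 * 9 := by norm_num; exact h1
    exact this.dvd_of_dvd_mul_left h4
  have h5 : k.natAbs ∣ 9 := by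
    have := Int.natAbs_dvd_natAbs.mpr h3
    simpa using this
  have h6 : k.natAbs = 1 ∨ k.natAbs = 3 ∨ k.natAbs = 9 := by
    have h7 : k.natAbs ≤ 9 := Nat.le_of_dvd (by norm_num) h5
    interval_cases k.natAbs <;> simp_all
  rcases h6 with h6 | h6 | h6
  · omega
  · omega
  · rcases Int.natAbs_eq k with h8 | h8 <;> rw [h6] at h8 <;> subst h8 <;> norm_num at h <;> omega

/-- solving an integer quadratic with factorisation (p d - q)(d - r) = 0 -/
theorem fac {p q r d : ℤ} (h : (p * d - q) * (d - r) = 0) : p * d = q ∨ d = r := by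
  rcases mul_eq_zero.mp h with h | h
  · left; linarith
  · right; linarith

theorem bound39 {z : ℤ} (h : z ^ 2 ≤ 39) : -6 ≤ z ∧ z ≤ 6 := by
  constructor <;> by_contra hc <;> nlinarith

theorem final (n a al d ga x s r : ℤ)
    (hn : 0 < n) (hn16 : n % 32 = 16) (hn3 : n % 3 = 0)
    (h1 : n * (a - al) ^ 2 = 4608 * (a * (a + 1)))
    (h2 : (al * d - ga * a) ^ 2 * (a + 1) = (a - al) ^ 2 * (d * (a + d)))
    (ha8 : (a - al) % 8 = 0) (ha4 : a % 4 = 2) (hg8 : (ga - d) % 8 = 0) (hd4 : d % 4 = 1)
    (hr : 0 ≤ r) (hs : s = 2 ∨ s = -2)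
    (h3 : 1 + al ^ 2 + (1 + al) ^ 2 + ga ^ 2 + (al + ga) ^ 2 + 2 * s ^ 2 + r = 48)
    (hd1 : d ≠ 1) (hd1' : a + d ≠ -1)
    (hx : r = 0 → 1 + a * al + (1 + a) * (1 + al) + d * ga + (a + d) * (al + ga) + 2 * (x * s) = 0)
    (hx2 : 1 + a ^ 2 + (1 + a) ^ 2 + d ^ 2 + (a + d) ^ 2 + 2 * x ^ 2 ≤ n) :
    n = 5616 ∨ n = 7920 := by
  have hs4 : s ^ 2 = 4 := by rcases hs with rfl | rfl <;> norm_num
  -- al = ±2
  have p1 := sq_nonneg (1 + al)
  have p2 := sq_nonneg ga
  have p3 := sq_nonneg (al + ga)
  have p4 := sq_nonneg al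
  have hal2 : al ^ 2 ≤ 39 := by linarith
  have hal4 : al % 4 = 2 := by omega
  obtain ⟨hal_ge, hal_le⟩ := bound39 hal2
  have hal : al = 2 ∨ al = -2 := by
    have h6 : al ≠ 6 := by
      rintro rfl; linarith
    have h6' : al ≠ -6 := by
      rintro rfl; linarith
    omega
  have hga4 : ga % 4 = 1 := by omega
  -- ga
  have hga2 : ga ^ 2 ≤ 39 := by linarith
  obtain ⟨hga_ge, hga_le⟩ := bound39 hga2
  have hga : ga = 1 ∨ ga = 5 ∨ ga = -3 := by omega
  obtain ⟨k, hk⟩ : ∃ k : ℤ, a - al = 8 * k := ⟨(a - al) / 8, by omega⟩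
  obtain ⟨m, hm⟩ : ∃ m : ℤ, n = 16 * m ∧ m % 2 = 1 := ⟨n / 16, by omega, by omega⟩
  have hkodd : k % 2 = 1 := by
    -- m * 16 * 64 k^2 = 4608 a (a+1), a = 2 a', a' odd
    obtain ⟨a', ha'⟩ : ∃ a' : ℤ, a = 4 * a' + 2 := ⟨a / 4, by omega⟩
    have h4 : m * k ^ 2 = 9 * ((2 * a' + 1) * (4 * a' + 3)) := by
      have h5 : n * (a - al) ^ 2 = 4608 * (a * (a + 1)) := h1
      rw [hk, hm.1, ha'] at h5
      have h6 : 1024 * (m * k ^ 2) = 1024 * (9 * ((2 * a' + 1) * (4 * a' + 3))) := by
        linear_combination h5
      exact mul_left_cancel₀ (by norm_num) h6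
    have h7 : (m * k ^ 2) % 2 = 1 := by
      rw [h4]
      have : 9 * ((2 * a' + 1) * (4 * a' + 3)) = 2 * (9 * (4 * a' ^ 2 + 5 * a' + 1) + 4) + 1 := by ring
      rw [this]; omega
    by_contra hcon
    have hk0 : k % 2 = 0 := by omega
    obtain ⟨k', rfl⟩ : ∃ k', k = 2 * k' := ⟨k / 2, by omega⟩
    have : m * (2 * k') ^ 2 = 2 * (2 * m * k' ^ 2) := by ring
    rw [this] at h7
    omega
  rcases hal with rfl | rfl
  · -- al = 2
    obtain rfl : a = 2 + 8 * k := by linarith
    have h1' : n * k ^ 2 = 72 * ((2 + 8 * k) * (3 + 8 * k)) := by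
      have h6 : 64 * (n * k ^ 2) = 64 * (72 * ((2 + 8 * k) * (3 + 8 * k))) := by
        linear_combination h1
      exact mul_left_cancel₀ (by norm_num) h6
    have hga' : ga = 1 ∨ ga = -3 := by
      rcases hga with h | h | h
      · exact Or.inl h
      · exfalso; subst h; linarith
      · exact Or.inr h
    rcases k_cases_pos k n hkodd h1' with rfl | rfl | rfl | rfl
    · right; linarith
    · -- n = 2160, a = -6
      exfalso
      rcases hga' with rfl | rfl
      · have h5 : (7 * d - 15) * (d - 1) = 0 := by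
          have : 12 * ((7 * d - 15) * (d - 1)) = 12 * 0 := by linarith [h2]
          exact mul_left_cancel₀ (by norm_num) this
        rcases fac h5 with h | h <;> omega
      · have h5 : (7 * d - 27) * (d - 5) = 0 := by
          have : 12 * ((7 * d - 27) * (d - 5)) = 12 * 0 := by linarith [h2]
          exact mul_left_cancel₀ (by norm_num) this
        rcases fac h5 with h | h <;> omega
    · left; linarith
    · -- n = 3696, a = -22
      exfalso
      rcases hga' with rfl | rfl
      · have h5 : (5 * d - 77) * (d - 1) = 0 := by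
          have : 132 * ((5 * d - 77) * (d - 1)) = 132 * 0 := by linarith [h2]
          exact mul_left_cancel₀ (by norm_num) this
        rcases fac h5 with h | h <;> omega
      · have h5 : (5 * d - 33) * (d - 21) = 0 := by
          have : 132 * ((5 * d - 33) * (d - 21)) = 132 * 0 := by linarith [h2]
          exact mul_left_cancel₀ (by norm_num) this
        rcases fac h5 with h | h <;> omega
  · -- al = -2
    obtain rfl : a = -2 + 8 * k := by linarith
    have h1' : n * k ^ 2 = 72 * ((-2 + 8 * k) * (-1 + 8 * k)) := by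
      have h6 : 64 * (n * k ^ 2) = 64 * (72 * ((-2 + 8 * k) * (-1 + 8 * k))) := by
        linear_combination h1
      exact mul_left_cancel₀ (by norm_num) h6
    exfalso
    rcases k_cases_neg k n hkodd h1' with rfl | rfl | rfl | rfl
    · -- n = 3024, a = 6
      have hn' : n = 3024 := by linarith
      rcases hga with rfl | rfl | rfl
      · have h5 : (1 * d - (-7)) * (d - 1) = 0 := by
          have : 36 * ((1 * d - (-7)) * (d - 1)) = 36 * 0 := by linarith [h2]
          exact mul_left_cancel₀ (by norm_num) this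
        rcases fac h5 with h | h <;> omega
      · -- d = 21
        have h5 : (3 * d - (-25)) * (d - 21) = 0 := by
          have : 12 * ((3 * d - (-25)) * (d - 21)) = 12 * 0 := by linarith [h2]
          exact mul_left_cancel₀ (by norm_num) this
        have hr0 : r = 0 := by linarith
        rcases fac h5 with h | h
        · omega
        · subst h
          have h8 := hx hr0
          rcases hs with rfl | rfl
          · have : x = -42 := by linarith
            subst this; linarith
          · have : x = 42 := by linarith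
            subst this; linarith
      · -- ga = -3 : d = -27
        have h5 : (3 * d - 7) * (d - (-27)) = 0 := by
          have : 12 * ((3 * d - 7) * (d - (-27))) = 12 * 0 := by linarith [h2]
          exact mul_left_cancel₀ (by norm_num) this
        have hr0 : r = 0 := by linarith
        rcases fac h5 with h | h
        · omega
        · subst h
          have h8 := hx hr0
          rcases hs with rfl | rfl
          · have : x = -42 := by linarith
            subst this; linarith
          · have : x = 42 := by linarith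
            subst this; linarith
    · -- n = 6480, a = -10
      rcases hga with rfl | rfl | rfl
      · have h5 : (1 * d - 9) * (d - 1) = 0 := by
          have : 100 * ((1 * d - 9) * (d - 1)) = 100 * 0 := by linarith [h2]
          exact mul_left_cancel₀ (by norm_num) this
        rcases fac h5 with h | h <;> omega
      · nlinarith [h2, sq_nonneg (25 * d - 305)]
      · nlinarith [h2, sq_nonneg (25 * d + 55)]
    · -- n = 4048
      have : n = 4048 := by linarith
      omega
    · have : n = 5200 := by linarith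
      omega

end Cfsg.Agent.Characters.GL23.Arith
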